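import Cfsg.Agent.Lib.RelDeg.Det
import Cfsg.Agent.Lib.Core.MinNormal
import Cfsg.Prelude.Def_DegreeGraph

/-!
# The common-divisor graph on `cd(G|N)` (Isaacs–Knutson, McVey)
-/

set_option autoImplicit false

open scoped Classical

namespace CfsgLib.RelDeg

open Cfsg CfsgLib.Char CfsgLib.ChDeg MulAction

variable {G : Type*} [Group G] [Finite G] {N : Subgroup G} [hN : N.Normal]

/-- `p`-elements -/
def IsP {A : Type*} [Monoid A] (p : ℕ) (x : A) : Prop := ∃ k : ℕ, x ^ p ^ k = 1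

theorem IsP.coprime {A : Type*} [Monoid A] {p : ℕ} (hp : p.Prime) {x : A} (h : IsP p x) {m : ℕ}
    (hm : ¬ p ∣ m) : (orderOf x).Coprime m := by
  obtain ⟨k, hk⟩ := h
  exact Nat.Coprime.coprime_dvd_left (orderOf_dvd_of_pow_eq_one hk)
    (Nat.Coprime.pow_left k ((Nat.Prime.coprime_iff_not_dvd hp).2 hm))

theorem IsP.dvd {A : Type*} [Monoid A] {p : ℕ} (hp : p.Prime) {x : A} (h : IsP p x) (hx : x ≠ 1) :
    p ∣ orderOf x := by
  by_contra hd
  have := (Nat.coprime_self _).1 (h.coprime hp hd)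
  exact hx (orderOf_eq_one_iff.1 this)

theorem IsP.both {A : Type*} [Monoid A] {p : ℕ} {x y : A} (h : IsP p x) (h' : IsP p y) :
    ∃ k : ℕ, x ^ p ^ k = 1 ∧ y ^ p ^ k = 1 := by
  obtain ⟨k, hk⟩ := h
  obtain ⟨l, hl⟩ := h'
  exact ⟨k + l, by rw [pow_add, pow_mul, hk, one_pow], by
    rw [pow_add, mul_comm, pow_mul, hl, one_pow]⟩

theorem IsP.mul {A : Type*} [CommMonoid A] {p : ℕ} {x y : A} (h : IsP p x) (h' : IsP p y) :
    IsP p (x * y) := by
  obtain ⟨k, h1, h2⟩ := h.both h'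
  exact ⟨k, by rw [mul_pow, h1, h2, one_mul]⟩

theorem IsP.inv {A : Type*} [Group A] {p : ℕ} {x : A} (h : IsP p x) : IsP p x⁻¹ := by
  obtain ⟨k, hk⟩ := h
  exact ⟨k, by rw [inv_pow, hk, inv_one]⟩

theorem IsP.pow {A : Type*} [Monoid A] {p : ℕ} {x : A} (h : IsP p x) (j : ℕ) : IsP p (x ^ j) := by
  obtain ⟨k, hk⟩ := h
  exact ⟨k, by rw [← pow_mul, mul_comm, pow_mul, hk, one_pow]⟩

/-- the common divisor of the degrees over a linear character -/
noncomputable def W (κ : Lin N) : ℕ :=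
  if stabilizer G κ = ⊤ then orderOf κ else (stabilizer G κ).index

omit [Finite G] in
theorem W_ne_one {κ : Lin N} (h : κ ≠ 1) : W κ ≠ 1 := by
  unfold W
  split_ifs with h1
  · exact fun e => h (orderOf_eq_one_iff.1 e)
  · exact fun e => h1 (Subgroup.index_eq_one.1 e)

theorem W_dvd [Fintype N] (hNG : N ≤ commutator G) {η : G → ℂ} (hη : IsIrrCharacter G η)
    {ψ : N → ℂ} (hψ : IsIrrCharacter N ψ) (h : classInner (fun n : N => η n) ψ ≠ 0) {κ : Lin N}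
    {M : ℕ} (hc : (orderOf κ).Coprime (charDegree ψ * M))
    (hM : dl ψ ^ M = κ ^ (charDegree ψ * M)) : W κ ∣ charDegree η := by
  have := Fintype.ofFinite G
  have hψc := isCharacter_of_isIrr hψ
  unfold W
  split_ifs with h1
  · obtain ⟨e, he, hp⟩ := prod_dl hNG hη hψ h
    have h2 : ∀ φ ∈ conjSet N ψ, dl φ ^ M = κ ^ (charDegree ψ * M) := by
      intro φ hφ
      obtain ⟨g, rfl⟩ := (mem_conjSet N).1 hφ
      have h3 : g⁻¹ • κ = κ := mem_stabilizer_iff.1 (h1 ▸ Subgroup.mem_top _)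
      rw [dl_conjChar g hψc, ← smul_pow', hM, smul_pow', h3]
    have h3 : κ ^ (charDegree η * M) = 1 := by
      have h4 := congrArg (· ^ M) hp
      simp only [one_pow] at h4
      rw [← pow_mul, mul_comm, pow_mul, ← Finset.prod_pow, Finset.prod_congr rfl h2,
        Finset.prod_const, card_conjSet, ← pow_mul, ← pow_mul] at h4
      rw [← h4, he]
      congr 1
      ring
    exact (Nat.Coprime.coprime_mul_left_right hc).dvd_of_dvd_mul_right
      (orderOf_dvd_of_pow_eq_one h3)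
  · refine (Subgroup.index_dvd_of_le fun g hg => ?_).trans (index_inertia_dvd N hη hψ h)
    have h2 := mem_stabilizer_iff.1 (inertia_le_stab_dl hψc hg)
    refine mem_stabilizer_iff.2 (smul_eq_of_pow hc ?_)
    rw [← hM, smul_pow', h2]

theorem W_dvd_self [Fintype N] (hNG : N ≤ commutator G) {η : G → ℂ} (hη : IsIrrCharacter G η)
    {κ : Lin N} (h : classInner (fun n : N => η n) (co κ) ≠ 0) : W κ ∣ charDegree η :=
  W_dvd hNG hη (isIrr_co κ) h (M := 1) (by simp [deg_co]) (by simp [deg_co, dl_co])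

omit hN in
theorem deg_mem [Fintype N] {η : G → ℂ} (hη : IsIrrCharacter G η) {ψ : N → ℂ}
    (hψ : IsIrrCharacter N ψ) (h1 : ψ ≠ fun _ => 1) (h : classInner (fun n : N => η n) ψ ≠ 0) :
    charDegree η ∈ relCharDegrees N := by
  have hc := isCharacter_of_isIrr hη
  have := not_le_cker_of_over N hc hψ h1 h
  obtain ⟨x, hx, hx'⟩ := SetLike.not_le_iff_exists.1 this
  exact ⟨⟨η, hη⟩, ⟨x, hx, fun e => hx' ((mem_cker hc).2 e)⟩, rfl⟩

omit hN in
theorem mem_rel_iff {d : ℕ} : d ∈ relCharDegrees N ↔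
    ∃ χ : G → ℂ, IsIrrCharacter G χ ∧ ¬ N ≤ cker χ ∧ charDegree χ = d := by
  constructor
  · rintro ⟨χ, ⟨x, hx, hx'⟩, rfl⟩
    exact ⟨χ, χ.2, fun h => hx' ((mem_cker (irr_isCharacter χ)).1 (h hx)), rfl⟩
  · rintro ⟨χ, hχ, h, rfl⟩
    obtain ⟨x, hx, hx'⟩ := SetLike.not_le_iff_exists.1 h
    exact ⟨⟨χ, hχ⟩, ⟨x, hx, fun e => hx' ((mem_cker (isCharacter_of_isIrr hχ)).2 e)⟩, rfl⟩

theorem exists_of_mem [Fintype N] {d : ℕ} (hd : d ∈ relCharDegrees N) :
    ∃ (χ : G → ℂ) (θ : N → ℂ), IsIrrCharacter G χ ∧ IsIrrCharacter N θ ∧ θ ≠ (fun _ => 1) ∧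
      classInner (fun n : N => χ n) θ ≠ 0 ∧ charDegree χ = d := by
  obtain ⟨χ, hχ, h, rfl⟩ := mem_rel_iff.1 hd
  obtain ⟨θ, h1, h2, h3⟩ := exists_irr_under_ne_one N hχ h
  exact ⟨χ, θ, hχ, h1, h2, h3, rfl⟩

omit hN [Finite G] in
theorem rel_pos {d : ℕ} (hd : d ∈ relCharDegrees N) : 0 < d := by
  obtain ⟨χ, -, rfl⟩ := hd
  exact deg_pos χ.2

omit hN in
theorem rel_ne_one (hNG : N ≤ commutator G) {d : ℕ} (hd : d ∈ relCharDegrees N) : d ≠ 1 := by
  obtain ⟨χ, hχ, h, rfl⟩ := mem_rel_iff.1 hd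
  exact fun e => h (hNG.trans ((deg_eq_one_iff_commutator_le hχ).1 e))

omit hN [Finite G] in
theorem rel_mono {K : Subgroup G} (h : K ≤ N) : relCharDegrees K ⊆ relCharDegrees N := by
  rintro d ⟨χ, ⟨x, hx, hx'⟩, rfl⟩
  exact ⟨χ, ⟨x, h hx, hx'⟩, rfl⟩

omit hN [Finite G] in
theorem co_ne_one {μ : Lin N} (h : μ ≠ 1) : co μ ≠ fun _ => 1 :=
  fun e => h (co_injective (e.trans co_one.symm))

theorem ncop_of_dvd {a c w : ℕ} (hw : w ≠ 1) (h1 : w ∣ a) (h2 : w ∣ c) : ¬ a.Coprime c :=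
  fun h => hw (Nat.eq_one_of_dvd_coprimes h h1 h2)

theorem ncop_mono {a c a' c' : ℕ} (h : ¬ a.Coprime c) (h1 : a ∣ a') (h2 : c ∣ c') :
    ¬ a'.Coprime c' :=
  fun h' => h (Nat.Coprime.coprime_dvd_left h1 (Nat.Coprime.coprime_dvd_right h2 h'))

omit hN in
theorem exists_card_split {p : ℕ} (hp : p.Prime) :
    ∃ M : ℕ, ¬ p ∣ M ∧ ∀ μ : Lin N, IsP p (μ ^ M) := by
  obtain ⟨k, M, hM, h⟩ := Nat.exists_eq_pow_mul_and_not_dvd (Nat.card_pos (α := N)).ne' p
    hp.ne_one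
  exact ⟨M, hM, fun μ => ⟨k, by rw [← pow_mul, mul_comm, ← h, lin_pow_card]⟩⟩

theorem exists_root {A : Type*} [Group A] {p : ℕ} (hp : p.Prime) {x : A} (hx : IsP p x) {m : ℕ}
    (hm : ¬ p ∣ m) : ∃ ν : A, IsP p ν ∧ ν ^ m = x := by
  obtain ⟨j, hj⟩ := exists_pow_eq_self_of_coprime (hx.coprime hp hm).symm
  exact ⟨x ^ j, hx.pow j, by rw [← pow_mul, mul_comm, pow_mul, hj]⟩

theorem lemA [Fintype N] (hNG : N ≤ commutator G) {p : ℕ} (hp : p.Prime) {χ : G → ℂ}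
    (hχ : IsIrrCharacter G χ) {θ : N → ℂ} (hθ : IsIrrCharacter N θ)
    (h : classInner (fun n : N => χ n) θ ≠ 0) (hpθ : ¬ p ∣ charDegree θ)
    (hL : ¬ ∃ ν : Lin N, θ = co ν ∧ IsP p ν) {lam : Lin N} (hlam : IsP p lam) :
    ∃ c ∈ relCharDegrees N, ¬ (charDegree χ).Coprime c ∧ W lam ∣ c := by
  obtain ⟨M, hM, hMP⟩ := exists_card_split (N := N) hp
  have hdM : ¬ p ∣ charDegree θ * M := fun hd => ((Nat.Prime.dvd_mul hp).1 hd).elim hpθ hM
  obtain ⟨ν, hν, hνM⟩ := exists_root hp (hMP (dl θ)) hdM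
  have hψ := isIrr_co_mul (ν⁻¹ * lam) hθ
  have hψ1 : (fun n => co (ν⁻¹ * lam) n * θ n) ≠ fun _ => 1 := by
    intro e
    refine hL ⟨ν * lam⁻¹, funext fun n => ?_, hν.mul hlam.inv⟩
    have h1 := congrFun e n
    have h2 : co (ν * lam⁻¹) n * co (ν⁻¹ * lam) n = 1 := by
      rw [← co_mul, mul_mul_mul_comm, mul_inv_cancel, inv_mul_cancel, one_mul, co_one]
    rw [← one_mul (θ n), ← h2, mul_assoc, h1, mul_one]
  obtain ⟨η, hη, hov⟩ := exists_irr_over N hψ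
  refine ⟨charDegree η, deg_mem hη hψ hψ1 hov, ?_, W_dvd hNG hη hψ hov (M := M) ?_ ?_⟩
  · by_cases hd : charDegree θ = 1
    · obtain ⟨μ, rfl⟩ := exists_co (isCharacter_of_isIrr hθ) hd
      rw [hd, one_mul, dl_co] at hνM
      obtain ⟨j, h1, h2⟩ := hν.both hlam
      have h3 : (μ * ν⁻¹) ^ M = 1 := by rw [mul_pow, inv_pow, hνM, mul_inv_cancel]
      have h4 : (orderOf (μ * ν⁻¹)).Coprime (p ^ j) :=
        Nat.Coprime.coprime_dvd_left (orderOf_dvd_of_pow_eq_one h3)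
          (Nat.Coprime.pow_right j ((Nat.Prime.coprime_iff_not_dvd hp).2 hM).symm)
      refine ncop_of_dvd (W_ne_one (κ := μ * ν⁻¹) fun e => hL ⟨μ, rfl, ?_⟩)
        (W_dvd hNG hχ hθ h (M := p ^ j) (by rwa [hd, one_mul]) ?_)
        (W_dvd hNG hη hψ hov (M := p ^ j) (by rwa [deg_co_mul, hd, one_mul]) ?_)
      · rw [mul_inv_eq_one] at e
        exact e ▸ hν
      · rw [hd, one_mul, dl_co, mul_pow, inv_pow, h1, inv_one, mul_one]
      · rw [deg_co_mul, dl_co_mul _ hθ, hd, one_mul, pow_one, dl_co, mul_pow, mul_pow, mul_pow, h2,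
          mul_one, mul_comm]
    · refine ncop_of_dvd hd (deg_dvd_of_over N hχ hθ h) ?_
      have := deg_dvd_of_over N hη hψ hov
      rwa [deg_co_mul] at this
  · rw [deg_co_mul]; exact hlam.coprime hp hdM
  · rw [deg_co_mul, dl_co_mul _ hθ, mul_pow, ← hνM, ← pow_mul, mul_pow, inv_pow, mul_right_comm,
      inv_mul_cancel, one_mul]

theorem lemB [Fintype N] (hNG : N ≤ commutator G) {p : ℕ} (hp : p.Prime) {χ : G → ℂ}
    (hχ : IsIrrCharacter G χ) {ν : Lin N} (hν : IsP p ν) (hν1 : ν ≠ 1)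
    (h : classInner (fun n : N => χ n) (co ν) ≠ 0) (hpa : ¬ p ∣ charDegree χ)
    {lam : Lin N} (hlam : IsP p lam) (hlam1 : lam ≠ 1) (hpt : ¬ p ∣ (stabilizer G lam).index) :
    ∃ c ∈ relCharDegrees N, ¬ (charDegree χ).Coprime c ∧ ¬ c.Coprime (W lam) := by
  have := Fintype.ofFinite G
  have hW := W_dvd_self hNG hχ h
  have hνi : stabilizer G ν ≠ ⊤ := by
    intro e
    rw [W, if_pos e] at hW
    exact hpa ((hν.dvd hp hν1).trans hW)
  rw [W, if_neg hνi] at hW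
  have hs1 : (stabilizer G ν).index ≠ 1 := fun e => hνi (Subgroup.index_eq_one.1 e)
  have hps : ¬ p ∣ (stabilizer G ν).index := fun hd => hpa (hd.trans hW)
  by_cases hc : (stabilizer G ν).index.Coprime (stabilizer G lam).index
  · have h1 := not_coprime_index_mul hc.symm (hν.coprime hp hpt) hνi
    rw [mul_comm] at h1
    have h2 : ν * lam ≠ 1 := by
      intro e
      have : stabilizer G (1 : Lin N) = ⊤ := eq_top_iff.2 fun g _ => smul_one g
      rw [e, this, Subgroup.index_top] at h1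
      exact h1 (Nat.coprime_one_left _)
    obtain ⟨η, hη, hov⟩ := exists_irr_over N (isIrr_co (ν * lam))
    have h3 := index_inertia_dvd N hη (isIrr_co _) hov
    rw [inertia_co] at h3
    refine ⟨charDegree η, deg_mem hη (isIrr_co _) (co_ne_one h2) hov,
      ncop_mono (fun h => h1 h.symm) hW h3, ?_⟩
    unfold W
    split_ifs with h4
    · refine ncop_of_dvd hp.ne_one ?_ (hlam.dvd hp hlam1)
      obtain ⟨e, he, hpe⟩ := prod_dl hNG hη (isIrr_co _) hov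
      obtain ⟨e', he', hpe'⟩ := prod_dl hNG hχ (isIrr_co _) h
      rw [prod_dl_co] at hpe hpe'
      obtain ⟨h5, -⟩ := Nm_mul_of_coprime hc (by rw [h4, Subgroup.index_top]; simp)
      have h6 : lam ^ ((stabilizer G ν).index * e * e') = 1 := by
        have h7 := congrArg (· ^ e') hpe
        simp only [one_pow] at h7
        rw [h5, mul_pow, mul_pow, ← pow_mul (Nm G ν), mul_comm e, pow_mul, hpe', one_pow, one_mul,
          ← pow_mul, ← pow_mul] at h7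
        rw [← h7, mul_assoc]
      have h8 := (hlam.dvd hp hlam1).trans (orderOf_dvd_of_pow_eq_one h6)
      rcases (Nat.Prime.dvd_mul hp).1 h8 with h8 | h8
      · rcases (Nat.Prime.dvd_mul hp).1 h8 with h8 | h8
        · exact absurd h8 hps
        · rw [he]; exact (h8.mul_right _).mul_right _
      · exact absurd (he' ▸ (h8.mul_right _).mul_right _) hpa
    · exact ncop_mono (not_coprime_index_mul hc (hlam.coprime hp hps) h4) h3 dvd_rfl
  · refine ⟨charDegree χ, deg_mem hχ (isIrr_co _) (co_ne_one hν1) h, ncop_of_dvd hs1 hW hW, ?_⟩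
    have h4 : stabilizer G lam ≠ ⊤ := by
      intro e
      rw [e, Subgroup.index_top] at hc
      exact hc (Nat.coprime_one_right _)
    rw [W, if_neg h4]
    exact ncop_mono hc hW dvd_rfl

theorem lemC (hNG : N ≤ commutator G) {p : ℕ} (hp : p.Prime) {a : ℕ} (ha : a ∈ relCharDegrees N)
    (hpa : ¬ p ∣ a) {lam : Lin N} (hlam : IsP p lam) (hlam1 : lam ≠ 1)
    (hpt : ¬ p ∣ (stabilizer G lam).index) :
    ∃ c ∈ relCharDegrees N, ¬ a.Coprime c ∧ ¬ c.Coprime (W lam) := by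
  have := Fintype.ofFinite N
  obtain ⟨χ, θ, hχ, hθ, h1, h, rfl⟩ := exists_of_mem ha
  by_cases hL : ∃ ν : Lin N, θ = co ν ∧ IsP p ν
  · obtain ⟨ν, rfl, hν⟩ := hL
    exact lemB hNG hp hχ hν (fun e => h1 (e ▸ co_one)) h hpa hlam hlam1 hpt
  · obtain ⟨c, hc, h2, h3⟩ := lemA hNG hp hχ hθ h
      (fun hd => hpa (hd.trans (deg_dvd_of_over N hχ hθ h))) hL hlam
    exact ⟨c, hc, h2, ncop_of_dvd (W_ne_one hlam1) h3 dvd_rfl⟩

omit hN [Finite G] in
theorem relIndex_comm : ⁅N, N⁆.relIndex N = Nat.card (Abelianization N) := by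
  rw [Subgroup.relIndex, ← Subgroup.map_subtype_commutator, Subgroup.subgroupOf,
    Subgroup.comap_map_eq_self_of_injective N.subtype_injective]
  rfl

omit hN [Finite G] in
theorem lin_pow_relIndex (μ : Lin N) : μ ^ ⁅N, N⁆.relIndex N = 1 := by
  refine MonoidHom.ext fun n => ?_
  change μ.hom n ^ ⁅N, N⁆.relIndex N = 1
  rw [relIndex_comm, ← Abelianization.lift_apply_of μ.hom n, ← map_pow, pow_card_eq_one', map_one]

theorem exists_lam {p : ℕ} (hp : p.Prime) (hm : p ∣ ⁅N, N⁆.relIndex N) :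
    ∃ lam : Lin N, lam ≠ 1 ∧ lam ^ p = 1 ∧ ¬ p ∣ (stabilizer G lam).index := by
  have := Fact.mk hp
  rw [relIndex_comm] at hm
  have hex : NeZero ((Monoid.exponent (Abelianization N) : ℕ) : ℂ) :=
    ⟨Nat.cast_ne_zero.2 Monoid.exponent_ne_zero_of_finite⟩
  rw [← CommGroup.card_monoidHom_of_hasEnoughRootsOfUnity (Abelianization N) ℂ] at hm
  obtain ⟨f, hf⟩ := exists_prime_orderOf_dvd_card' p hm
  let l₀ : Lin N := f.comp Abelianization.of
  have h0 : l₀ ^ p = 1 := by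
    refine MonoidHom.ext fun n => ?_
    have := DFunLike.congr_fun (pow_orderOf_eq_one f) (Abelianization.of n)
    rw [hf] at this
    exact this
  have h1 : l₀ ≠ 1 := by
    intro e
    have : f = 1 := Abelianization.hom_ext _ _ e
    rw [this, orderOf_one] at hf
    exact hp.ne_one hf.symm
  let S : SubMulAction G (Lin N) :=
    ⟨{l | l ^ p = 1}, fun g l hl => by
      change (g • l) ^ p = 1
      rw [← smul_pow', show l ^ p = 1 from hl, smul_one]⟩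
  have hS : p ∣ Nat.card S := by
    have h2 : Nat.card S = Nat.card (powMonoidHom p : Lin N →* Lin N).ker := rfl
    have h3 : orderOf (⟨l₀, h0⟩ : (powMonoidHom p : Lin N →* Lin N).ker) = p :=
      orderOf_eq_prime (Subtype.ext h0) fun e => h1 (congrArg Subtype.val e)
    rw [h2]
    exact (dvd_of_eq h3.symm).trans (orderOf_dvd_natCard _)
  obtain ⟨P⟩ : Nonempty (Sylow p G) := inferInstance
  obtain ⟨b, hb, hb1⟩ := P.isPGroup'.exists_fixed_point_of_prime_dvd_card_of_fixed_point S hS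
    (a := ⟨1, one_pow p⟩) (fun g => Subtype.ext (show (g : G) • (1 : Lin N) = 1 from smul_one _))
  refine ⟨b.1, fun e => hb1 (Subtype.ext e.symm), b.2, fun hd => ?_⟩
  have hle : (P : Subgroup G) ≤ stabilizer G b.1 := fun g hg => congrArg Subtype.val (hb ⟨g, hg⟩)
  exact P.not_dvd_index (hd.trans (Subgroup.index_dvd_of_le hle))

theorem exists_over_W (hNG : N ≤ commutator G) {lam : Lin N} (h : lam ≠ 1) :
    ∃ l ∈ relCharDegrees N, W lam ∣ l := by
  have := Fintype.ofFinite N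
  obtain ⟨η, hη, hov⟩ := exists_irr_over N (isIrr_co lam)
  exact ⟨_, deg_mem hη (isIrr_co _) (co_ne_one h) hov, W_dvd_self hNG hη hov⟩

theorem exists_over_W_two (hNG : N ≤ commutator G) {p q : ℕ} (hp : p.Prime) (hq : q.Prime)
    (hpq : p ≠ q) {lam mu : Lin N} (h : lam ≠ 1) (hl : IsP p lam) (hm : IsP q mu) :
    ∃ l ∈ relCharDegrees N, W lam ∣ l ∧ W mu ∣ l := by
  have := Fintype.ofFinite N
  obtain ⟨j, hj⟩ := hl
  obtain ⟨k, hk⟩ := hm
  have h1 : (orderOf lam).Coprime (q ^ k) :=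
    IsP.coprime hp ⟨j, hj⟩ fun hd => hpq ((Nat.prime_dvd_prime_iff_eq hp hq).1 (hp.dvd_of_dvd_pow hd))
  have h2 : (orderOf mu).Coprime (p ^ j) :=
    IsP.coprime hq ⟨k, hk⟩ fun hd =>
      hpq ((Nat.prime_dvd_prime_iff_eq hq hp).1 (hq.dvd_of_dvd_pow hd)).symm
  have h3 : lam * mu ≠ 1 := by
    intro e
    have h4 : lam ^ q ^ k = 1 := by
      rw [← mul_one (lam ^ q ^ k), ← hk, ← mul_pow, e, one_pow, hk]
    exact h (orderOf_eq_one_iff.1 (Nat.eq_one_of_dvd_coprimes h1 dvd_rfl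
      (orderOf_dvd_of_pow_eq_one h4)))
  obtain ⟨η, hη, hov⟩ := exists_irr_over N (isIrr_co (lam * mu))
  refine ⟨_, deg_mem hη (isIrr_co _) (co_ne_one h3) hov,
    W_dvd hNG hη (isIrr_co _) hov (M := q ^ k) (by rwa [deg_co, one_mul]) ?_,
    W_dvd hNG hη (isIrr_co _) hov (M := p ^ j) (by rwa [deg_co, one_mul]) ?_⟩
  · rw [deg_co, one_mul, dl_co, mul_pow, hk, mul_one]
  · rw [deg_co, one_mul, dl_co, mul_pow, hj, one_mul]

/-- reachability in the graph -/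
abbrev Rch (N : Subgroup G) {a b : ℕ} (ha : a ∈ relCharDegrees N) (hb : b ∈ relCharDegrees N) :
    Prop := (commonDivisorGraph.induce (relCharDegrees N)).Reachable ⟨a, ha⟩ ⟨b, hb⟩

omit hN [Finite G] in
theorem adj_of_ncop {a b : ℕ} (ha : a ∈ relCharDegrees N) (hb : b ∈ relCharDegrees N)
    (hne : a ≠ b) (h : ¬ a.Coprime b) :
    (commonDivisorGraph.induce (relCharDegrees N)).Adj ⟨a, ha⟩ ⟨b, hb⟩ := by
  refine ⟨hne, ?_⟩
  have := Nat.gcd_pos_of_pos_left b (rel_pos ha)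
  change 1 < Nat.gcd a b
  unfold Nat.Coprime at h
  omega

omit hN [Finite G] in
theorem rch_of_ncop {a b : ℕ} (ha : a ∈ relCharDegrees N) (hb : b ∈ relCharDegrees N)
    (h : ¬ a.Coprime b) : Rch N ha hb := by
  by_cases hne : a = b
  · subst hne; exact SimpleGraph.Reachable.refl _
  · exact (adj_of_ncop ha hb hne h).reachable

theorem claim1 (hNG : N ≤ commutator G) {a b : ℕ} (ha : a ∈ relCharDegrees N)
    (hb : b ∈ relCharDegrees N) (h : ¬ Rch N ha hb) {p : ℕ} (hp : p.Prime)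
    (hm : p ∣ ⁅N, N⁆.relIndex N) : p ∣ a ∨ p ∣ b := by
  by_contra hc
  push Not at hc
  obtain ⟨lam, h1, h2, h3⟩ := exists_lam hp hm
  have hl : IsP p lam := ⟨1, by rwa [pow_one]⟩
  obtain ⟨c, hc1, hc2, hc3⟩ := lemC hNG hp ha hc.1 hl h1 h3
  obtain ⟨c', hc1', hc2', hc3'⟩ := lemC hNG hp hb hc.2 hl h1 h3
  obtain ⟨l, hl1, hl2⟩ := exists_over_W hNG h1
  exact h (((rch_of_ncop ha hc1 hc2).trans (rch_of_ncop hc1 hl1 (ncop_mono hc3 dvd_rfl hl2))).trans
    ((rch_of_ncop hb hc1' hc2').trans (rch_of_ncop hc1' hl1 (ncop_mono hc3' dvd_rfl hl2))).symm)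

theorem claim2 (hNG : N ≤ commutator G) {a b : ℕ} (ha : a ∈ relCharDegrees N)
    (hb : b ∈ relCharDegrees N) (h : ¬ Rch N ha hb) {p q : ℕ} (hp : p.Prime) (hq : q.Prime)
    (hm : p ∣ ⁅N, N⁆.relIndex N) (hm' : q ∣ ⁅N, N⁆.relIndex N) (hpa : p ∣ a) : ¬ q ∣ b := by
  intro hqb
  have hcop : a.Coprime b := by
    by_contra hc; exact h (rch_of_ncop ha hb hc)
  have hqa : ¬ q ∣ a := fun hd => ncop_of_dvd hq.ne_one hd hqb hcop
  have hpb : ¬ p ∣ b := fun hd => ncop_of_dvd hp.ne_one hpa hd hcop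
  obtain ⟨lam, h1, h2, h3⟩ := exists_lam hp hm
  obtain ⟨mu, h1', h2', h3'⟩ := exists_lam hq hm'
  have hl : IsP p lam := ⟨1, by rwa [pow_one]⟩
  have hl' : IsP q mu := ⟨1, by rwa [pow_one]⟩
  obtain ⟨c, hc1, hc2, hc3⟩ := lemC hNG hq ha hqa hl' h1' h3'
  obtain ⟨c', hc1', hc2', hc3'⟩ := lemC hNG hp hb hpb hl h1 h3
  obtain ⟨l, hl1, hl2, hl3⟩ := exists_over_W_two hNG hp hq (fun e => hqa (e ▸ hpa)) h1 hl hl'
  exact h (((rch_of_ncop ha hc1 hc2).trans (rch_of_ncop hc1 hl1 (ncop_mono hc3 dvd_rfl hl3))).trans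
    ((rch_of_ncop hb hc1' hc2').trans (rch_of_ncop hc1' hl1 (ncop_mono hc3' dvd_rfl hl2))).symm)

omit hN [Finite G] in
theorem relIndex_ne_one (h : ⁅N, N⁆ < N) : ⁅N, N⁆.relIndex N ≠ 1 :=
  fun e => h.not_ge (Subgroup.relIndex_eq_one.1 e)

theorem coprime_of_forall {a m : ℕ} (h : ∀ q : ℕ, q.Prime → q ∣ m → ¬ q ∣ a) : a.Coprime m :=
  Nat.coprime_of_dvd fun q hq h1 h2 => h q hq h2 h1

theorem dichotomy (hNG : N ≤ commutator G) (hlt : ⁅N, N⁆ < N) {a b : ℕ}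
    (ha : a ∈ relCharDegrees N) (hb : b ∈ relCharDegrees N) (h : ¬ Rch N ha hb) :
    (Nat.Coprime a (⁅N, N⁆.relIndex N) ∧ ∀ r : ℕ, r.Prime → r ∣ ⁅N, N⁆.relIndex N → r ∣ b) ∨
      (Nat.Coprime b (⁅N, N⁆.relIndex N) ∧ ∀ r : ℕ, r.Prime → r ∣ ⁅N, N⁆.relIndex N → r ∣ a) := by
  obtain ⟨p, hp, hm⟩ := Nat.exists_prime_and_dvd (relIndex_ne_one hlt)
  rcases claim1 hNG ha hb h hp hm with h1 | h1
  · have h2 : ∀ q : ℕ, q.Prime → q ∣ ⁅N, N⁆.relIndex N → ¬ q ∣ b :=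
      fun q hq hd => claim2 hNG ha hb h hp hq hm hd h1
    exact Or.inr ⟨coprime_of_forall h2,
      fun q hq hd => (claim1 hNG ha hb h hq hd).resolve_right (h2 q hq hd)⟩
  · have h2 : ∀ q : ℕ, q.Prime → q ∣ ⁅N, N⁆.relIndex N → ¬ q ∣ a :=
      fun q hq hd => claim2 hNG hb ha (fun h' => h h'.symm) hp hq hm hd h1
    exact Or.inl ⟨coprime_of_forall h2,
      fun q hq hd => (claim1 hNG ha hb h hq hd).resolve_left (h2 q hq hd)⟩

/-- for a prime `p` dividing `|N : N'|`, exactly one of two disconnected degrees is divisible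
by `p` -/
theorem rch_of_iff (hNG : N ≤ commutator G) {a b : ℕ}
    (ha : a ∈ relCharDegrees N) (hb : b ∈ relCharDegrees N) {p : ℕ} (hp : p.Prime)
    (hm : p ∣ ⁅N, N⁆.relIndex N) (h : p ∣ a ↔ p ∣ b) : Rch N ha hb := by
  by_contra hc
  rcases claim1 hNG ha hb hc hp hm with h1 | h1
  · exact hc (rch_of_ncop ha hb (ncop_of_dvd hp.ne_one h1 (h.1 h1)))
  · exact hc (rch_of_ncop ha hb (ncop_of_dvd hp.ne_one (h.2 h1) h1))

omit hN [Finite G] in
theorem rch_mono {K : Subgroup G} (h : K ≤ N) {a b : ℕ} {ha : a ∈ relCharDegrees K}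
    {hb : b ∈ relCharDegrees K} (hr : Rch K ha hb) : Rch N (rel_mono h ha) (rel_mono h hb) :=
  hr.map (commonDivisorGraph.induceHomOfLE (rel_mono h)).toHom

omit hN in
theorem mem_rel_comm [Fintype N] {χ : G → ℂ} (hχ : IsIrrCharacter G χ) {θ : N → ℂ}
    (hθ : IsIrrCharacter N θ) (h : classInner (fun n : N => χ n) θ ≠ 0) (hd : charDegree θ ≠ 1) :
    charDegree χ ∈ relCharDegrees ⁅N, N⁆ := by
  refine mem_rel_iff.2 ⟨χ, hχ, fun hle => hd ?_, rfl⟩
  have hc := isCharacter_of_isIrr hχ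
  refine (deg_eq_one_iff_commutator_le hθ).2
    (le_trans ?_ (cker_le_of_inner_ne_zero (isCharacter_restrict N hc) hθ h))
  rw [cker_res N hc]
  intro x hx
  exact hle (N.map_subtype_commutator ▸ Subgroup.mem_map_of_mem _ hx)

theorem exists_part [Fintype N] (hNG : N ≤ commutator G) {χ : G → ℂ} (hχ : IsIrrCharacter G χ)
    {μ : Lin N} (hμ : μ ≠ 1) (h : classInner (fun n : N => χ n) (co μ) ≠ 0) :
    ∃ p : ℕ, p.Prime ∧ p ∣ ⁅N, N⁆.relIndex N ∧
      ∃ lam : Lin N, lam ≠ 1 ∧ IsP p lam ∧ W lam ∣ charDegree χ := by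
  obtain ⟨p, hp, hd⟩ := Nat.exists_prime_and_dvd (fun e => hμ (orderOf_eq_one_iff.1 e))
  obtain ⟨M, hM, hMP⟩ := exists_card_split (N := N) hp
  obtain ⟨lam, h1, h2⟩ := exists_root hp (hMP μ) hM
  refine ⟨p, hp, hd.trans (orderOf_dvd_of_pow_eq_one (lin_pow_relIndex μ)), lam, fun e => ?_, h1,
    W_dvd hNG hχ (isIrr_co μ) h (M := M) (by rw [deg_co, one_mul]; exact h1.coprime hp hM)
      (by rw [deg_co, one_mul, dl_co, h2])⟩
  rw [e, one_pow] at h2
  exact hM (hd.trans (orderOf_dvd_of_pow_eq_one h2.symm))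

omit [Finite G] in
theorem not_dvd_index_of_W {p : ℕ} {lam : Lin N} (hp : p.Prime) (h : ¬ p ∣ W lam) :
    ¬ p ∣ (stabilizer G lam).index := by
  unfold W at h
  split_ifs at h with h1
  · rw [h1, Subgroup.index_top, Nat.dvd_one]; exact hp.ne_one
  · exact h

/-- a degree coprime to `|N : N'|` is at distance at most two from a degree coprime to `|N : N'|`
lying over a linear character -/
theorem near_of_lin [Fintype N] (hNG : N ≤ commutator G) {a : ℕ} (ha : a ∈ relCharDegrees N)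
    (hac : a.Coprime (⁅N, N⁆.relIndex N)) {χ : G → ℂ} (hχ : IsIrrCharacter G χ)
    (hχc : (charDegree χ).Coprime (⁅N, N⁆.relIndex N)) {μ : Lin N} (hμ : μ ≠ 1)
    (h : classInner (fun n : N => χ n) (co μ) ≠ 0) :
    ∃ c ∈ relCharDegrees N, ¬ a.Coprime c ∧ ¬ c.Coprime (charDegree χ) := by
  obtain ⟨p, hp, hm, lam, h1, h2, h3⟩ := exists_part hNG hχ hμ h
  obtain ⟨c, hc, h4, h5⟩ := lemC hNG hp ha (fun hd => ncop_of_dvd hp.ne_one hd hm hac) h2 h1
    (not_dvd_index_of_W hp fun hd => ncop_of_dvd hp.ne_one (hd.trans h3) hm hχc)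
  exact ⟨c, hc, h4, ncop_mono h5 dvd_rfl h3⟩

omit [Finite G] in
theorem comm_lt {K : Subgroup G} [Group.IsSolvable K] (h : K ≠ ⊥) : ⁅K, K⁆ < K :=
  CfsgLib.Core.commutator_self_lt_of_isSolvable h

omit hN in
theorem ne_bot_of_mem {d : ℕ} (hd : d ∈ relCharDegrees N) : N ≠ ⊥ := by
  obtain ⟨χ, -, h, -⟩ := mem_rel_iff.1 hd
  exact fun e => h (e ▸ bot_le)

/-- in a disconnected graph both components have diameter at most two -/
theorem near_of_disc : ∀ (n : ℕ) (N : Subgroup G) [N.Normal] [Group.IsSolvable N],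
    Nat.card N = n → N ≤ commutator G → ∀ {x y : ℕ} (hx : x ∈ relCharDegrees N)
    (hy : y ∈ relCharDegrees N), ¬ Rch N hx hy → ∀ {a b : ℕ} (ha : a ∈ relCharDegrees N)
    (hb : b ∈ relCharDegrees N), Rch N ha hb →
      ∃ c ∈ relCharDegrees N, ¬ a.Coprime c ∧ ¬ c.Coprime b := by
  intro n
  induction n using Nat.strong_induction_on with
  | _ n ih =>
  intro N _ _ hn hNG x y hx hy hxy a b ha hb hab
  have := Fintype.ofFinite N
  have hlt : ⁅N, N⁆ < N := comm_lt (ne_bot_of_mem hx)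
  obtain ⟨p, hp, hm⟩ := Nat.exists_prime_and_dvd (relIndex_ne_one hlt)
  wlog hpy : p ∣ y generalizing x y
  · exact this hy hx (fun h => hxy h.symm) ((claim1 hNG hx hy hxy hp hm).resolve_right hpy)
  have hpx : ¬ p ∣ x := fun hd => hxy (rch_of_iff hNG hx hy hp hm (iff_of_true hd hpy))
  by_cases hay : Rch N ha hy
  · have h1 : p ∣ a := by
      by_contra hc
      exact hxy ((rch_of_iff hNG hx ha hp hm (iff_of_false hpx hc)).trans hay)
    have h2 : p ∣ b := by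
      by_contra hc
      exact hxy ((rch_of_iff hNG hx hb hp hm (iff_of_false hpx hc)).trans (hab.symm.trans hay))
    exact ⟨a, ha, ncop_of_dvd hp.ne_one h1 h1, ncop_of_dvd hp.ne_one h1 h2⟩
  have hby : ¬ Rch N hb hy := fun h => hay (hab.trans h)
  have hcop : ∀ {z : ℕ} (hz : z ∈ relCharDegrees N), ¬ Rch N hz hy →
      z.Coprime (⁅N, N⁆.relIndex N) := by
    intro z hz h
    rcases dichotomy hNG hlt hz hy h with h1 | h1
    · exact h1.1
    · exact absurd h1.1 (ncop_of_dvd hp.ne_one hpy hm)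
  have hac := hcop ha hay
  have hbc := hcop hb hby
  obtain ⟨χ, θ, hχ, hθ, hθ1, hov, rfl⟩ := exists_of_mem ha
  obtain ⟨χ', θ', hχ', hθ', hθ1', hov', rfl⟩ := exists_of_mem hb
  by_cases hd' : charDegree θ' = 1
  · obtain ⟨μ, rfl⟩ := exists_co (isCharacter_of_isIrr hθ') hd'
    exact near_of_lin hNG ha hac hχ' hbc (fun e : μ = 1 => hθ1' (e ▸ co_one)) hov'
  by_cases hd : charDegree θ = 1
  · obtain ⟨μ, rfl⟩ := exists_co (isCharacter_of_isIrr hθ) hd
    obtain ⟨c, hc, h1, h2⟩ := near_of_lin hNG hb hbc hχ hac (fun e : μ = 1 => hθ1 (e ▸ co_one)) hov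
    exact ⟨c, hc, fun h => h2 h.symm, fun h => h1 h.symm⟩
  have ha' := mem_rel_comm hχ hθ hov hd
  have hb' := mem_rel_comm hχ' hθ' hov' hd'
  obtain ⟨ξ, φ, hξ, hφ, hφ1, hov'', rfl⟩ := exists_of_mem hy
  have hy' : charDegree ξ ∈ relCharDegrees ⁅N, N⁆ := by
    refine mem_rel_comm hξ hφ hov'' fun hd'' => ?_
    obtain ⟨μ, rfl⟩ := exists_co (isCharacter_of_isIrr hφ) hd''
    obtain ⟨q, hq, hqm, lam, h1, h2, h3⟩ := exists_part hNG hξ
      (fun e : μ = 1 => hφ1 (e ▸ co_one)) hov''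
    obtain ⟨c, hc, h4, h5⟩ := lemA hNG hq hχ hθ hov
      (fun h => ncop_of_dvd hq.ne_one (h.trans (deg_dvd_of_over N hχ hθ hov)) hqm hac)
      (fun ⟨ν, h, _⟩ => hd (h ▸ deg_co ν)) h2
    exact hay ((rch_of_ncop ha hc h4).trans (rch_of_ncop hc hy (ncop_of_dvd (W_ne_one h1) h5 h3)))
  have hsol : Group.IsSolvable (⁅N, N⁆ : Subgroup G) :=
    Group.isSolvable_of_isSolvable_injective (Subgroup.inclusion_injective hlt.le)
  have hNG' : ⁅N, N⁆ ≤ commutator G := hlt.le.trans hNG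
  have hay' : ¬ Rch ⁅N, N⁆ ha' hy' := fun h => hay (rch_mono hlt.le h)
  have hby' : ¬ Rch ⁅N, N⁆ hb' hy' := fun h => hby (rch_mono hlt.le h)
  obtain ⟨q, hq, hqm⟩ := Nat.exists_prime_and_dvd
    (relIndex_ne_one (comm_lt (ne_bot_of_mem ha')))
  have hab' : Rch ⁅N, N⁆ ha' hb' := by
    refine rch_of_iff hNG' ha' hb' hq hqm ?_
    have h1 := mt (rch_of_iff hNG' ha' hy' hq hqm) hay'
    have h2 := mt (rch_of_iff hNG' hb' hy' hq hqm) hby'
    tauto
  obtain ⟨c, hc, h1⟩ := ih _ (hn ▸ CfsgLib.Core.card_lt_of_lt hlt) ⁅N, N⁆ rfl hNG' ha' hy' hay' ha' hb'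
    hab'
  exact ⟨c, rel_mono hlt.le hc, h1⟩

end CfsgLib.RelDeg
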